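import Groth.Prelude.Def_MoreMor
import Groth.Agent.Lib.RG6.CritMain
import Groth.Agent.Lib.FlatFP.SheafFlat
import Groth.Agent.Lib.QCoh.Support
import Groth.Agent.Lib.QCoh.Coherent

/-!
# Flatness at a point from flatness at the relative associated points above it
-/

set_option autoImplicit false
set_option linter.style.haveILetI false
set_option backward.isDefEq.respectTransparency false

universe u

open CategoryTheory CategoryTheory.Limits AlgebraicGeometry IsLocalRing
open scoped TensorProduct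

namespace GrothLib.RelAssCrit8

theorem primeAt_fromSpec {X : Scheme.{u}} {W : X.Opens} (hW : IsAffineOpen W) (p : Spec Γ(X, W))
    (hp : hW.fromSpec p ∈ W) : WeakAss.primeAt (hW.fromSpec p) hp = p.asIdeal := by
  exact congrArg PrimeSpectrum.asIdeal ((QCoh.primeAt_eq_primeIdealOf hW hp).trans
    (hW.fromSpec.isOpenEmbedding.injective (hW.fromSpec_primeIdealOf ⟨hW.fromSpec p, hp⟩)))

theorem comap_primeAt {X S : Scheme.{u}} (f : X ⟶ S) {V : S.Opens} {U : X.Opens} (e : U ≤ f ⁻¹ᵁ V) (x : X)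
    (hx : x ∈ U) : (WeakAss.primeAt x hx).comap (f.appLE V U e).hom = WeakAss.primeAt (f x) (e hx) := by
  ext a
  rw [Ideal.mem_comap, ← not_iff_not, WeakAss.notMem_primeAt_iff, WeakAss.notMem_primeAt_iff]
  have h := Scheme.Hom.preimage_basicOpen f a
  constructor
  · intro h1
    have h2 : x ∈ U ⊓ X.basicOpen (f.app V a) := by
      rw [← Scheme.basicOpen_res]
      exact h1
    have h3 : x ∈ f ⁻¹ᵁ S.basicOpen a := h ▸ h2.2
    exact h3
  · intro h1
    have h2 : x ∈ X.basicOpen (f.app V a) := h ▸ (show x ∈ f ⁻¹ᵁ S.basicOpen a from h1)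
    show x ∈ X.basicOpen (X.presheaf.map (homOfLE e).op (f.app V a))
    rw [Scheme.basicOpen_res]
    exact ⟨hx, h2⟩

theorem eq_of_primeAt_eq {X : Scheme.{u}} {W : X.Opens} (hW : IsAffineOpen W) {x : X} (hx : x ∈ W) (p : Spec Γ(X, W))
    (h : WeakAss.primeAt x hx = p.asIdeal) : hW.fromSpec p = x := by
  rw [show p = hW.primeIdealOf ⟨x, hx⟩ from ?_, hW.fromSpec_primeIdealOf]
  refine PrimeSpectrum.ext ?_
  rw [← h]
  exact congrArg PrimeSpectrum.asIdeal (QCoh.primeAt_eq_primeIdealOf hW hx)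

variable {X S : Scheme.{u}} (f : X ⟶ S) (F : X.Modules) [F.IsQuasicoherent]

/-- An associated prime of the fibre module gives a relative associated point. -/
theorem mem_relAss {V : S.Opens} (hV : IsAffineOpen V) {U : X.Opens} (hU : IsAffineOpen U)
    (e : U ≤ f ⁻¹ᵁ V) (y : X) (hy : y ∈ U)
    [Algebra Γ(S, V) Γ(X, U)] (halg : algebraMap Γ(S, V) Γ(X, U) = (f.appLE V U e).hom)
    [Module Γ(S, V) Γ(F, U)] [IsScalarTower Γ(S, V) Γ(X, U) Γ(F, U)] [Algebra.FiniteType Γ(S, V) Γ(X, U)]
    (p : Ideal Γ(S, V)) [p.IsPrime] (hp : p = WeakAss.primeAt (f y) (e hy))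
    [(WeakAss.primeAt y hy).LiesOver p]
    (h : FlatCA.fiberIdeal p (WeakAss.primeAt y hy) ∈
      associatedPrimes (p.Fiber Γ(X, U)) (FlatCA.fiberMod p Γ(X, U) Γ(F, U))) :
    y ∈ MoreMor.relAss f F := by
  classical
  let A := Γ(S, V)
  let B := Γ(X, U)
  let N := Γ(F, U)
  let q := WeakAss.primeAt y hy
  obtain ⟨w, hw⟩ := RG6.exists_of_mem_ass p q h
  obtain ⟨r, hr, n, hn⟩ := WeakAssFib.exists_smul_eq_tmul_one p w
  have hrq : algebraMap A B r ∉ q := fun h' => hr ((Ideal.mem_of_liesOver q p r).2 h')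
  have hann : ∀ s : B, s • (n ⊗ₜ[A] (1 : p.ResidueField)) = 0 ↔ s ∈ q := fun s => by
    rw [← hn, ← algebraMap_smul B r w, smul_smul, hw]
    exact ⟨fun h' => ((inferInstance : q.IsPrime).mem_or_mem h').resolve_right hrq, fun h' => q.mul_mem_right _ h'⟩
  let Ox := X.presheaf.stalk y
  let M := F.presheaf.stalk y
  letI := X.presheaf.algebra_section_stalk ⟨y, hy⟩
  haveI := FlatFP.isLocalization_stalk_primeAt hU hy
  letI : Module B M := Module.compHom _ (X.presheaf.germ U y hy).hom
  haveI : IsScalarTower B Ox M := IsScalarTower.of_algebraMap_smul fun _ _ => rfl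
  obtain ⟨g, hg, -⟩ := FlatFP.isLocalizedModule_germ F hU hy
  haveI := hg
  letI algS : Algebra A (S.presheaf.stalk (f y)) := (S.presheaf.germ V (f y) (e hy)).hom.toAlgebra
  haveI : IsLocalization (WeakAss.primeAt (f y) (e hy)).primeCompl (S.presheaf.stalk (f y)) :=
    FlatFP.isLocalization_stalk_primeAt hV (e hy)
  let I : Ideal B := p.map (algebraMap A B)
  let m : Ideal Ox := (maximalIdeal (S.presheaf.stalk (f y))).map (f.stalkMap y).hom
  have hm : m = I.map (algebraMap B Ox) := by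
    show Ideal.map _ (maximalIdeal _) = (p.map (algebraMap A B)).map _
    rw [← IsLocalization.AtPrime.map_eq_maximalIdeal (WeakAss.primeAt (f y) (e hy)) (S.presheaf.stalk (f y)),
      ← hp, Ideal.map_map, Ideal.map_map, halg]
    congr 1
    refine RingHom.ext fun a => ?_
    show (f.stalkMap y).hom (S.presheaf.germ V (f y) (e hy) a) = X.presheaf.germ U y hy (f.appLE V U e a)
    show (f.stalkMap y) (S.presheaf.germ V (f y) (e hy) a) = _
    rw [Scheme.Hom.germ_stalkMap_apply]
    exact (TopCat.Presheaf.germ_res_apply X.presheaf (homOfLE e) y hy _).symm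
  -- membership in the extended submodule
  have hin : ∀ x : N, x ∈ I • (⊤ : Submodule B N) → g x ∈ m • (⊤ : Submodule Ox M) := by
    intro x hx
    refine Submodule.smul_induction_on hx (fun a ha z _ => ?_) fun a b ha hb => by rw [map_add]; exact add_mem ha hb
    rw [map_smul, ← algebraMap_smul Ox a (g z)]
    exact Submodule.smul_mem_smul (hm ▸ Ideal.mem_map_of_mem _ ha) trivial
  have hout : ∀ z ∈ m • (⊤ : Submodule Ox M), ∃ v ∉ q, ∃ x ∈ I • (⊤ : Submodule B N), v • z = g x := by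
    intro z hz
    refine Submodule.smul_induction_on hz (fun a ha z _ => ?_) fun a b ha hb => ?_
    · rw [hm] at ha
      obtain ⟨⟨⟨x, hx⟩, v⟩, hxv⟩ := (IsLocalization.mem_map_algebraMap_iff q.primeCompl Ox).1 ha
      obtain ⟨⟨n', v'⟩, hn'⟩ := IsLocalizedModule.surj q.primeCompl g z
      refine ⟨v * v', fun h' => ((inferInstance : q.IsPrime).mem_or_mem h').elim v.2 v'.2, x • n',
        Submodule.smul_mem_smul hx trivial, ?_⟩
      rw [map_smul, ← hn', Submonoid.smul_def, ← algebraMap_smul Ox x, ← hxv, ← algebraMap_smul Ox (v'.1 : B) z,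
        ← algebraMap_smul Ox ((v : B) * v') (a • z), smul_smul, smul_smul, map_mul]
      ring_nf
    · obtain ⟨v, hv, x, hx, hvx⟩ := ha
      obtain ⟨v', hv', x', hx', hvx'⟩ := hb
      refine ⟨v * v', fun h' => ((inferInstance : q.IsPrime).mem_or_mem h').elim hv hv', v' • x + v • x',
        add_mem (Submodule.smul_mem _ _ hx) (Submodule.smul_mem _ _ hx'), ?_⟩
      rw [map_add, map_smul, map_smul, ← hvx, ← hvx', smul_add, smul_smul, smul_smul, mul_comm v' v]
  have hzero : ∀ x : N, x ∈ I • (⊤ : Submodule B N) → x ⊗ₜ[A] (1 : p.ResidueField) = 0 := fun x hx => by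
    refine Submodule.smul_induction_on hx (fun a ha z _ => ?_)
      fun a b ha hb => by rw [TensorProduct.add_tmul, ha, hb, add_zero]
    induction ha using Submodule.span_induction generalizing z with
    | mem b hb =>
      obtain ⟨r, hr, rfl⟩ := hb
      rw [algebraMap_smul]
      exact RG6.tmul_one_eq_zero_of_mem p (Submodule.smul_mem_smul hr trivial)
    | zero => rw [zero_smul, TensorProduct.zero_tmul]
    | add b b' _ _ hb hb' => rw [add_smul, TensorProduct.add_tmul, hb z trivial, hb' z trivial, add_zero]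
    | smul c b _ hb => rw [smul_eq_mul, mul_comm, mul_smul]; exact hb (c • z) trivial
  refine ⟨(inferInstance : (maximalIdeal Ox).IsPrime), Submodule.Quotient.mk (g n), ?_⟩
  suffices hcol : maximalIdeal Ox = Submodule.colon (⊥ : Submodule Ox (M ⧸ m • (⊤ : Submodule Ox M)))
      {Submodule.Quotient.mk (g n)} by
    rw [← hcol, Ideal.IsPrime.radical inferInstance]
  refine le_antisymm ?_ ?_
  · intro a ha
    rw [← IsLocalization.AtPrime.map_eq_maximalIdeal q Ox] at ha
    refine (Ideal.map_le_iff_le_comap.2 fun s hs => ?_) ha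
    rw [Ideal.mem_comap, Submodule.mem_colon_singleton, Submodule.mem_bot, ← Submodule.Quotient.mk_smul,
      Submodule.Quotient.mk_eq_zero, algebraMap_smul, ← map_smul]
    have h0 : (s • n) ⊗ₜ[A] (1 : p.ResidueField) = 0 := by rw [← TensorProduct.smul_tmul']; exact (hann s).2 hs
    obtain ⟨u, hu, hus⟩ := WeakAssFib.exists_smul_mem_of_tmul_one_eq_zero p h0
    have huB : IsUnit (algebraMap B Ox (algebraMap A B u)) :=
      IsLocalization.map_units Ox (⟨algebraMap A B u, fun h' => hu ((Ideal.mem_of_liesOver q p u).2 h')⟩ : q.primeCompl)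
    have h1 : g (algebraMap A B u • (s • n)) ∈ m • (⊤ : Submodule Ox M) := by
      refine hin _ ?_
      rw [algebraMap_smul]
      refine Submodule.smul_induction_on hus (fun a ha z _ => ?_) fun a b ha hb => add_mem ha hb
      rw [← algebraMap_smul B a z]
      exact Submodule.smul_mem_smul (Ideal.mem_map_of_mem _ ha) trivial
    rw [map_smul, ← algebraMap_smul Ox (algebraMap A B u)] at h1
    exact (Submodule.smul_mem_iff_of_isUnit _ huB).1 h1
  · refine IsLocalRing.le_maximalIdeal fun htop => ?_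
    have h1 : (1 : Ox) ∈ Submodule.colon (⊥ : Submodule Ox (M ⧸ m • (⊤ : Submodule Ox M)))
        {Submodule.Quotient.mk (g n)} := htop ▸ trivial
    rw [Submodule.mem_colon_singleton, Submodule.mem_bot, one_smul, Submodule.Quotient.mk_eq_zero] at h1
    obtain ⟨v, hv, x, hx, hvx⟩ := hout _ h1
    rw [← map_smul] at hvx
    obtain ⟨c, hc⟩ := (IsLocalizedModule.eq_iff_exists q.primeCompl g).1 hvx
    have h2 : ((c : B) * v) • (n ⊗ₜ[A] (1 : p.ResidueField)) = 0 := by
      rw [TensorProduct.smul_tmul', mul_smul]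
      refine hzero _ ?_
      rw [show (c : B) • v • n = (c : B) • x from hc]
      exact Submodule.smul_mem _ _ hx
    exact ((inferInstance : q.IsPrime).mem_or_mem ((hann _).1 h2)).elim c.2 hv

/-- **Flatness at a point fails at a relative associated point of its fibre specializing to it.** -/
theorem exists_relAss_of_not_flatAt [LocallyOfFiniteType f] (hF : CohB1.IsFT F) (x : X)
    (hx : ¬ FlatMod.IsFlatOverAt f F x) :
    ∃ y : X, y ⤳ x ∧ f y = f x ∧ y ∈ MoreMor.relAss f F ∧ ¬ FlatMod.IsFlatOverAt f F y := by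
  classical
  obtain ⟨V, hV, hxV, -⟩ := exists_isAffineOpen_mem_and_subset (show f x ∈ (⊤ : S.Opens) from trivial)
  obtain ⟨U, hU, hxU, e⟩ := exists_isAffineOpen_mem_and_subset (show x ∈ f ⁻¹ᵁ V from hxV)
  letI : Algebra Γ(S, V) Γ(X, U) := (f.appLE V U e).hom.toAlgebra
  haveI : Algebra.FiniteType Γ(S, V) Γ(X, U) :=
    HasRingHomProperty.appLE @LocallyOfFiniteType f ‹_› ⟨V, hV⟩ ⟨U, hU⟩ e
  letI : Module Γ(S, V) Γ(F, U) := Module.compHom _ (algebraMap Γ(S, V) Γ(X, U))
  haveI : IsScalarTower Γ(S, V) Γ(X, U) Γ(F, U) := IsScalarTower.of_algebraMap_smul fun _ _ => rfl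
  haveI := QCoh.moduleFinite_of_isFiniteType F hF hU
  let p := WeakAss.primeAt (f x) (e hxU)
  haveI : (WeakAss.primeAt x hxU).LiesOver p := ⟨(comap_primeAt f e x hxU).symm⟩
  rw [FlatFP.isFlatOverAt_iff f F hV hU e hxU rfl] at hx
  have key : ∃ (q' : Ideal Γ(X, U)) (_ : q'.IsPrime) (_ : q'.LiesOver p), q' ≤ WeakAss.primeAt x hxU ∧
      FlatCA.fiberIdeal p q' ∈ associatedPrimes (p.Fiber Γ(X, U)) (FlatCA.fiberMod p Γ(X, U) Γ(F, U)) ∧
      ¬ Module.Flat Γ(S, V) (LocalizedModule q'.primeCompl Γ(F, U)) := by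
    by_contra hne
    refine hx (RG6.flatAt_of_ass Γ(F, U) p (WeakAss.primeAt x hxU) fun q' _ hle hover hass => ?_)
    by_contra hnf
    exact hne ⟨q', inferInstance, hover, hle, hass, hnf⟩
  obtain ⟨q', hq', hover, hle, hass, hnf⟩ := key
  have hexy : ∃ (y : X) (hyU : y ∈ U), WeakAss.primeAt y hyU = q' ∧ y ⤳ x := by
    let P : Spec Γ(X, U) := ⟨q', hq'⟩
    have hPU : hU.fromSpec P ∈ U := hU.range_fromSpec.subset ⟨P, rfl⟩
    refine ⟨_, hPU, primeAt_fromSpec hU P hPU, ?_⟩
    have hQ : hU.fromSpec ⟨WeakAss.primeAt x hxU, inferInstance⟩ = x := eq_of_primeAt_eq hU hxU _ rfl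
    rw [← hQ]
    exact ((PrimeSpectrum.le_iff_specializes P ⟨WeakAss.primeAt x hxU, inferInstance⟩).1 hle).map hU.fromSpec.continuous
  obtain ⟨y, hyU, hP, hspec⟩ := hexy
  subst hP
  have h1 : WeakAss.primeAt (f y) (e hyU) = p :=
    (comap_primeAt f e y hyU).symm.trans hover.over.symm
  have hfy : f y = f x :=
    (eq_of_primeAt_eq hV (e hyU) ⟨p, inferInstance⟩ h1).symm.trans (eq_of_primeAt_eq hV (e hxU) _ rfl)
  refine ⟨y, hspec, hfy, mem_relAss f F hV hU e y hyU rfl p h1.symm hass, ?_⟩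
  rwa [FlatFP.isFlatOverAt_iff f F hV hU e hyU rfl]

end GrothLib.RelAssCrit8
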