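import Groth.Agent.S9780
import Groth.Agent.Lib.RelAssCrit8.Basic
import Groth.Agent.Lib.RG6.Generic
import Groth.Agent.Lib.FunFlat6.EtalePullback
import Groth.Agent.Lib.FunFlat6.FlatDimLimit

/-!
# Consequences of the criterion by relative associated points
-/

set_option autoImplicit false
set_option linter.style.haveILetI false
set_option backward.isDefEq.respectTransparency false

universe u

open CategoryTheory CategoryTheory.Limits AlgebraicGeometry

namespace GrothLib.RelAssCrit8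

/-- Flatness over the base passes to generizations. -/
theorem flatAt_of_specializes {X S : Scheme.{u}} (f : X ⟶ S) (F : X.Modules) [F.IsQuasicoherent] {x y : X}
    (h : y ⤳ x) (hx : FlatMod.IsFlatOverAt f F x) : FlatMod.IsFlatOverAt f F y := by
  obtain ⟨V, hV, hxV, -⟩ := exists_isAffineOpen_mem_and_subset (show f x ∈ (⊤ : S.Opens) from trivial)
  obtain ⟨U, hU, hxU, e⟩ := exists_isAffineOpen_mem_and_subset (show x ∈ f ⁻¹ᵁ V from hxV)
  letI : Algebra Γ(S, V) Γ(X, U) := (f.appLE V U e).hom.toAlgebra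
  letI : Module Γ(S, V) Γ(F, U) := Module.compHom _ (algebraMap Γ(S, V) Γ(X, U))
  haveI : IsScalarTower Γ(S, V) Γ(X, U) Γ(F, U) := IsScalarTower.of_algebraMap_smul fun _ _ => rfl
  have hyU : y ∈ U := h.mem_open U.2 hxU
  rw [FlatFP.isFlatOverAt_iff f F hV hU e hxU rfl] at hx
  rw [FlatFP.isFlatOverAt_iff f F hV hU e hyU rfl]
  refine RG6.flat_localized_of_le (P := Γ(X, U)) (fun a ha => ?_) hx
  by_contra hne
  exact (WeakAss.notMem_primeAt_iff.2 (h.mem_open (X.basicOpen a).2 (WeakAss.notMem_primeAt_iff.1 hne))) ha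

theorem flatOver_of_relAss_specializes {X S : Scheme.{u}} (f : X ⟶ S) [LocallyOfFiniteType f] (F : X.Modules)
    [F.IsQuasicoherent] (hF : CohB1.IsFT F)
    (h : ∀ x ∈ MoreMor.relAss f F, ∃ x' : X, x ⤳ x' ∧ FlatMod.IsFlatOverAt f F x') :
    FlatMod.IsFlatOver f F := fun x => by
  by_contra hx
  obtain ⟨y, -, -, hy, hny⟩ := exists_relAss_of_not_flatAt f F hF x hx
  obtain ⟨x', hyx', hflat⟩ := h y hy
  exact hny (flatAt_of_specializes f F hyx' hflat)

/-- Flatness in dimensions at least `n` descends along an etale map covering the relative assassin. -/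
theorem flatDimGE_of_etale_relAss {X X' S : Scheme.{u}} (f : X ⟶ S) [LocallyOfFiniteType f] (F : X.Modules)
    [F.IsQuasicoherent] (hF : CohB1.IsFT F) (h : X' ⟶ X) [Etale h]
    (hAss : MoreMor.relAss f F ⊆ Set.range h.base) (n : ℕ) (T : Over S)
    (hT : FlatFun.DimFibresLT n (PicF.XTproj (h ≫ f) T)
        {x | ¬ FlatMod.IsFlatOverAt (PicF.XTproj (h ≫ f) T) (FGA.ET (h ≫ f) ((Scheme.Modules.pullback h).obj F) T) x}) :
    FlatFun.DimFibresLT n (PicF.XTproj f T)
        {x | ¬ FlatMod.IsFlatOverAt (PicF.XTproj f T) (FGA.ET f F T) x} := by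
  let a : PicF.XT (h ≫ f) T ⟶ PicF.XT f T :=
    pullback.lift (pullback.fst (h ≫ f) T.hom ≫ h) (pullback.snd (h ≫ f) T.hom)
      (by rw [Category.assoc]; exact pullback.condition)
  have ha₁ : a ≫ pullback.fst f T.hom = pullback.fst (h ≫ f) T.hom ≫ h := pullback.lift_fst _ _ _
  have ha₂ : a ≫ PicF.XTproj f T = PicF.XTproj (h ≫ f) T := pullback.lift_snd _ _ _
  have hsq : IsPullback (pullback.fst (h ≫ f) T.hom) a h (pullback.fst f T.hom) := by
    have hs : IsPullback (pullback.fst (h ≫ f) T.hom) (a ≫ PicF.XTproj f T) (h ≫ f) T.hom := by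
      rw [ha₂]
      exact IsPullback.of_hasPullback (h ≫ f) T.hom
    exact IsPullback.of_bot hs ha₁.symm (IsPullback.of_hasPullback f T.hom)
  haveI : Etale a := MorphismProperty.of_isPullback (P := @Etale) hsq ‹Etale h›
  haveI : (FGA.ET f F T).IsQuasicoherent := FittSheaf.isQuasicoherent_pullback (pullback.fst f T.hom) F
  haveI : LocallyOfFiniteType (PicF.XTproj f T) := MorphismProperty.pullback_snd _ _ inferInstance
  intro x hx
  obtain ⟨y, hyx, hfy, hy, hny⟩ :=
    exists_relAss_of_not_flatAt _ (FGA.ET f F T) (FunFlat6.isFT_pullback _ F hF) x hx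
  have hsub : {w : X | w ∈ MoreMor.relAss f F ∧ f w = T.hom (PicF.XTproj f T y)} ⊆ (Set.range h) :=
    fun w hw => hAss hw.1
  have hmem := (Groth.Agent.S9780.result f F hF ⟨Set.range h, h.isOpenMap.isOpen_range⟩ T.hom (PicF.XTproj f T) (pullback.fst f T.hom)
    (IsPullback.of_hasPullback f T.hom) (PicF.XTproj f T y)).1 hsub ⟨hy, rfl⟩
  obtain ⟨x', hx'⟩ : pullback.fst f T.hom y ∈ Set.range h := hmem
  obtain ⟨z, -, rfl⟩ := Scheme.exists_preimage_of_isPullback hsq x' y hx'
  haveI : Etale (𝟙 T.left) := inferInstance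
  refine (FunFlat6.resTrdeg_le_of_specializes (PicF.XTproj f T) hyx hfy).trans_lt ?_
  refine (EtFibre.trdeg_eq (PicF.XTproj f T) (PicF.XTproj (h ≫ f) T) a (𝟙 _)
    ((Category.comp_id _).trans ha₂.symm) z).trans_lt (hT z ?_)
  intro hflat
  refine hny ((FunFlat6.isFlatOverAt_comp_pullback_iff' a _ _ z (Flat.stalkMap a z)).1 ?_)
  refine (FunFlat6.isFlatOverAt_congr_map ha₂ _ z).2 ?_
  exact (FlatFP.isFlatOverAt_congr _ ((Scheme.Modules.pullbackComp _ h).app F ≪≫
    (Scheme.Modules.pullbackCongr ha₁.symm).app F ≪≫ ((Scheme.Modules.pullbackComp a _).app F).symm) z).1 hflat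

end GrothLib.RelAssCrit8
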