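import Groth.Agent.Lib.RelAssCrit8.Apply
import Groth.Agent.Lib.RG6.FibreOpen
import Groth.Agent.Lib.AffDom.PointDim
import Groth.Agent.Lib.Altitude.Fibre

/-!
# The dimension of the nonflat locus in the fibres
-/

set_option autoImplicit false
set_option linter.style.haveILetI false
set_option backward.isDefEq.respectTransparency false

universe u

open CategoryTheory CategoryTheory.Limits AlgebraicGeometry

namespace GrothLib.RelAssCrit8

variable {X S : Scheme.{u}} (f : X ⟶ S) [LocallyOfFiniteType f] (F : X.Modules) [F.IsQuasicoherent]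

/-- The flat locus is open in each fibre. -/
theorem exists_nhd_flat_in_fibre (hF : CohB1.IsFT F) {x : X} (hx : FlatMod.IsFlatOverAt f F x) :
    ∃ O : X.Opens, x ∈ O ∧ ∀ y ∈ O, f y = f x → FlatMod.IsFlatOverAt f F y := by
  obtain ⟨V, hV, hxV, -⟩ := exists_isAffineOpen_mem_and_subset (show f x ∈ (⊤ : S.Opens) from trivial)
  obtain ⟨U, hU, hxU, e⟩ := exists_isAffineOpen_mem_and_subset (show x ∈ f ⁻¹ᵁ V from hxV)
  letI : Algebra Γ(S, V) Γ(X, U) := (f.appLE V U e).hom.toAlgebra
  haveI : Algebra.FiniteType Γ(S, V) Γ(X, U) :=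
    HasRingHomProperty.appLE @LocallyOfFiniteType f ‹_› ⟨V, hV⟩ ⟨U, hU⟩ e
  letI : Module Γ(S, V) Γ(F, U) := Module.compHom _ (algebraMap Γ(S, V) Γ(X, U))
  haveI : IsScalarTower Γ(S, V) Γ(X, U) Γ(F, U) := IsScalarTower.of_algebraMap_smul fun _ _ => rfl
  haveI := QCoh.moduleFinite_of_isFiniteType F hF hU
  rw [FlatFP.isFlatOverAt_iff f F hV hU e hxU rfl] at hx
  obtain ⟨h, hh, H⟩ := RG6.exists_flat_near_in_fibre Γ(F, U) (WeakAss.primeAt (f x) (e hxU))
    (WeakAss.primeAt x hxU) hx
  refine ⟨X.basicOpen h, WeakAss.notMem_primeAt_iff.1 hh, fun y hy hfy => ?_⟩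
  have hyU : y ∈ U := X.basicOpen_le h hy
  rw [FlatFP.isFlatOverAt_iff f F hV hU e hyU rfl]
  refine H (WeakAss.primeAt y hyU) ⟨?_⟩ (WeakAss.notMem_primeAt_iff.2 hy)
  refine Eq.trans ?_ (comap_primeAt f e y hyU).symm
  simp only [hfy]

omit [LocallyOfFiniteType f] in
theorem dim_lt_of_forall {Z : Type*} [TopologicalSpace Z] [QuasiSober Z] (n : ℕ)
    (h : ∀ z : Z, ∃ k : ℕ, k < n ∧ topologicalKrullDim (closure {z} : Set Z) = k) :
    topologicalKrullDim Z < n := by
  rw [AffDom.topologicalKrullDim_eq_iSup]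
  cases n with
  | zero =>
    haveI : IsEmpty Z := ⟨fun z => by obtain ⟨k, hk, -⟩ := h z; omega⟩
    rw [iSup_of_empty]
    exact WithBot.bot_lt_coe _
  | succ m =>
    refine lt_of_le_of_lt (iSup_le fun z => ?_ : _ ≤ (m : WithBot ℕ∞)) (by exact_mod_cast m.lt_succ_self)
    obtain ⟨k, hk, hd⟩ := h z
    rw [hd]
    exact_mod_cast Nat.lt_succ_iff.1 hk

theorem dim_nonflat_lt_iff (hF : CohB1.IsFT F) (n : ℕ) :
    (∀ s : S, topologicalKrullDim {x : X // f x = s ∧ ¬ FlatMod.IsFlatOverAt f F x} < n) ↔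
      ∀ x : X, ¬ FlatMod.IsFlatOverAt f F x → Dual3.resTrdeg f x < n := by
  let W : ∀ s, Set (f.fiber s) := fun s => {w | ¬ FlatMod.IsFlatOverAt f F (f.fiberι s w)}
  have hW : ∀ s, IsClosed (W s) := fun s => by
    rw [← isOpen_compl_iff, isOpen_iff_forall_mem_open]
    intro w hw
    simp only [W, Set.mem_compl_iff, Set.mem_setOf_eq, not_not] at hw
    obtain ⟨O, hwO, hO⟩ := exists_nhd_flat_in_fibre f F hF hw
    refine ⟨f.fiberι s ⁻¹' (O : Set X), fun v hv => ?_, O.isOpen.preimage (f.fiberι s).continuous, hwO⟩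
    simp only [W, Set.mem_compl_iff, Set.mem_setOf_eq, not_not]
    exact hO _ hv ((FibreFlat.fiberι_comp_apply f s v).trans (FibreFlat.fiberι_comp_apply f s w).symm)
  have hdim : ∀ s, topologicalKrullDim {x : X // f x = s ∧ ¬ FlatMod.IsFlatOverAt f F x} = topologicalKrullDim (W s) := by
    intro s
    let φ : W s → {x : X // f x = s ∧ ¬ FlatMod.IsFlatOverAt f F x} := fun w =>
      ⟨f.fiberι s w.1, FibreFlat.fiberι_comp_apply f s w.1, w.2⟩
    have hind : Topology.IsInducing φ := Topology.IsInducing.of_comp (by fun_prop) continuous_subtype_val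
      ((f.fiberι s).isEmbedding.isInducing.comp Topology.IsInducing.subtypeVal)
    have hbij : Function.Bijective φ := by
      refine ⟨fun a b hab => Subtype.ext ((f.fiberι s).isEmbedding.injective (congrArg Subtype.val hab)), ?_⟩
      rintro ⟨x, hx, hnf⟩
      obtain ⟨w, rfl⟩ : x ∈ Set.range (f.fiberι s) := (f.range_fiberι s).symm ▸ hx
      exact ⟨⟨w, hnf⟩, rfl⟩
    let e := Equiv.toHomeomorphOfIsInducing (Equiv.ofBijective φ hbij) hind
    exact (IsHomeomorph.topologicalKrullDim_eq _ e.isHomeomorph).symm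
  have hcl : ∀ s (w : W s), topologicalKrullDim (closure {w} : Set (W s)) =
      topologicalKrullDim (closure {w.1} : Set (f.fiber s)) := by
    intro s w
    have hsub : (closure {w.1} : Set (f.fiber s)) ⊆ W s :=
      closure_minimal (Set.singleton_subset_iff.2 w.2) (hW s)
    have hc : (closure {w} : Set (W s)) = Subtype.val ⁻¹' closure {w.1} := by
      rw [Topology.IsEmbedding.subtypeVal.closure_eq_preimage_closure_image, Set.image_singleton]
    let φ : (closure {w} : Set (W s)) → (closure {w.1} : Set (f.fiber s)) := fun z =>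
      ⟨z.1.1, show z.1 ∈ Subtype.val ⁻¹' closure {w.1} from hc ▸ z.2⟩
    have hvv : Topology.IsInducing (fun z : (closure {w} : Set (W s)) => z.1.1) :=
      Topology.IsInducing.subtypeVal.comp Topology.IsInducing.subtypeVal
    have hind : Topology.IsInducing φ := Topology.IsInducing.of_comp (by fun_prop) continuous_subtype_val hvv
    have hbij : Function.Bijective φ := by
      refine ⟨fun a b hab => Subtype.ext (Subtype.ext (congrArg (fun z => z.1) hab)), fun z => ?_⟩
      exact ⟨⟨⟨z.1, hsub z.2⟩, hc ▸ z.2⟩, rfl⟩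
    let e := Equiv.toHomeomorphOfIsInducing (Equiv.ofBijective φ hbij) hind
    exact IsHomeomorph.topologicalKrullDim_eq _ e.isHomeomorph
  have hpt : ∀ s (w : f.fiber s), ∃ k : ℕ, Dual3.resTrdeg f (f.fiberι s w) = k ∧
      topologicalKrullDim (closure {w} : Set (f.fiber s)) = k := by
    intro s w
    obtain ⟨k, hk, hd⟩ := Altitude.exists_trdeg_eq_dim_closure f (f.fiberι s w)
    refine ⟨k, hk, ?_⟩
    have key : ∀ (t : S) (b : f.fiber t), f.fiberι t b = f.fiberι s w → f (f.fiberι s w) = t →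
        topologicalKrullDim (closure {b} : Set (f.fiber t)) = (k : WithBot ℕ∞) := by
      rintro t b hb rfl
      rw [show b = f.asFiber (f.fiberι s w) from (f.fiberι _).isEmbedding.injective (hb.trans (f.fiberι_asFiber _).symm)]
      exact hd
    exact key s w rfl (FibreFlat.fiberι_comp_apply f s w)
  constructor
  · intro h x hx
    obtain ⟨w, hw⟩ : x ∈ Set.range (f.fiberι (f x)) := by rw [f.range_fiberι]; rfl
    have hwW : w ∈ W (f x) := show ¬ FlatMod.IsFlatOverAt f F _ by rwa [hw]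
    obtain ⟨k, hk, hd⟩ := hpt (f x) w
    have h1 := (topologicalKrullDim_subspace_le (W (f x)) (closure {⟨w, hwW⟩})).trans_lt ((hdim (f x)) ▸ h (f x))
    rw [hcl, hd] at h1
    rw [← hw, hk]
    exact_mod_cast h1
  · intro h s
    rw [hdim]
    haveI : QuasiSober (W s) := (hW s).isClosedEmbedding_subtypeVal.quasiSober
    refine dim_lt_of_forall n fun w => ?_
    obtain ⟨k, hk, hd⟩ := hpt s w.1
    exact ⟨k, by exact_mod_cast hk.symm.trans_lt (h _ w.2), (hcl s w).trans hd⟩

end GrothLib.RelAssCrit8
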